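import Cfsg.Agent.SameSpectrum.Basic
import Cfsg.Agent.U33.Subgroup
import Cfsg.Agent.U34.Unitary

/-!
The element orders of `SL₃(3)` and `SU₃(3)`.
-/

set_option autoImplicit false
set_option maxRecDepth 100000
set_option maxHeartbeats 1000000
set_option linter.style.haveILetI false

open Cfsg.Agent.Classical Cfsg.Agent.Classical.Herm
open scoped Matrix

namespace Cfsg.Agent.SameSpectrum

section Cubic

variable {S : Type*} [CommRing S]

/-- Coefficients of `A ^ k` in terms of `A², A, 1` when `A³ = a A² + b A + 1`. -/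
def coef (a b : S) : ℕ → S × S × S
  | 0 => (0, 0, 1)
  | k + 1 => let c := coef a b k; (c.1 * a + c.2.1, c.1 * b + c.2.2, c.1)

theorem pow_eq_coef {A : Matrix (Fin 3) (Fin 3) S} {a b : S}
    (h : A ^ 3 = a • A ^ 2 + b • A + 1) (k : ℕ) :
    A ^ k = (coef a b k).1 • A ^ 2 + (coef a b k).2.1 • A + (coef a b k).2.2 • 1 := by
  induction k with
  | zero => simp [coef]
  | succ k ih =>
    rw [pow_succ', ih, coef]
    simp only [mul_add, mul_smul_comm, mul_one, ← pow_succ', ← pow_two]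
    rw [show (2 : ℕ) + 1 = 3 from rfl, h]
    module

theorem cubic (A : Matrix (Fin 3) (Fin 3) S) (hd : A.det = 1) :
    A ^ 3 = A.trace • A ^ 2 + (-A.adjugate.trace) • A + 1 := by
  rw [Matrix.det_fin_three] at hd
  rw [pow_succ, pow_two]
  ext i j
  fin_cases i <;> fin_cases j <;>
    simp [Matrix.adjugate_fin_three, Matrix.trace_fin_three, Matrix.mul_apply,
      Fin.sum_univ_three] <;> grind

theorem pow_eq_one_of_coef {A : Matrix (Fin 3) (Fin 3) S} {a b : S}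
    (h : A ^ 3 = a • A ^ 2 + b • A + 1) {k : ℕ} (hk : coef a b k = (0, 0, 1)) : A ^ k = 1 := by
  simp [pow_eq_coef h k, hk]

end Cubic

theorem sl_coef : ∀ a b : ZMod 3,
    coef a b 6 = (0, 0, 1) ∨ coef a b 8 = (0, 0, 1) ∨ coef a b 13 = (0, 0, 1) := by decide +kernel

/-- The companion matrix of `X³ - a X² - b X - 1`. -/
def comp (a b : ZMod 3) : Matrix.SpecialLinearGroup (Fin 3) (ZMod 3) :=
  ⟨!![0, 0, 1; 1, 0, b; 0, 1, a], by simp [Matrix.det_fin_three]⟩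

theorem sl_witness : ∀ n : Fin 3, ∃ a b : ZMod 3,
    (comp a b).1 ^ [6, 8, 13].getD n.val 0 = 1 ∧
      ∀ m : Fin ([6, 8, 13].getD n.val 0), m.val = 0 ∨ (comp a b).1 ^ m.val ≠ 1 := by decide +kernel

theorem sl_spectrum : Set.range (orderOf : Matrix.SpecialLinearGroup (Fin 3) (ZMod 3) → ℕ) =
    {m | m ∣ 6 ∨ m ∣ 8 ∨ m ∣ 13} := by
  have hw : ∀ n : Fin 3, ∃ g : Matrix.SpecialLinearGroup (Fin 3) (ZMod 3),
      orderOf g = [6, 8, 13].getD n.val 0 := fun n => by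
    obtain ⟨a, b, h1, h2⟩ := sl_witness n
    refine ⟨comp a b, orderOf_eq_of_forall (by fin_cases n <;> simp) (Subtype.ext ?_) fun m => ?_⟩
    · rw [Matrix.SpecialLinearGroup.coe_pow]; exact h1
    · refine (h2 m).imp_right fun h e => h ?_
      rw [← Matrix.SpecialLinearGroup.coe_pow, e]; rfl
  refine range_eq (fun g => ?_) (hw 0) (hw 1) (hw 2)
  have h := cubic g.1 g.2
  refine (sl_coef g.1.trace (-g.1.adjugate.trace)).imp (fun e => ?_)
    (Or.imp (fun e => ?_) fun e => ?_) <;>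
    exact Subtype.ext (by rw [Matrix.SpecialLinearGroup.coe_pow]; exact pow_eq_one_of_coef h e)

open U33 in
theorem su_coef : ∀ a : F9, coef a (-F9.frob a) 7 = (0, 0, 1) ∨ coef a (-F9.frob a) 8 = (0, 0, 1) ∨
    coef a (-F9.frob a) 12 = (0, 0, 1) := by decide +kernel

open U33 in
theorem adjugate_trace (g : Cfsg.SU 3 F9 3) :
    (g.1.1).adjugate.trace = F9.frob g.1.1.trace := by
  have h := (mem_SU_iff F9.frob_pow g.1).1 g.2
  have e : (g.1.1.map F9.frob)ᵀ * g.1.1 = 1 := by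
    ext i j
    have := h (Pi.single i 1) (Pi.single j 1)
    simpa [hermB_apply, Matrix.mul_apply, Matrix.one_apply, Matrix.mulVec_single, Pi.single_apply,
      apply_ite F9.frob, eq_comm] using this
  have e2 : g.1.1 * g.1.1.adjugate = 1 := by rw [Matrix.mul_adjugate, g.1.2, one_smul]
  rw [← left_inv_eq_right_inv e e2, Matrix.trace_transpose]
  exact (AddMonoidHom.map_trace F9.frob.toAddMonoidHom g.1.1).symm

open U33 in
/-- Matrices of orders 8 and 12. -/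
def wit : Fin 2 → Matrix (Fin 3) (Fin 3) F9 :=
  ![!![⟨0, 0⟩, ⟨0, 1⟩, ⟨0, 0⟩; ⟨1, 0⟩, ⟨0, 0⟩, ⟨0, 0⟩; ⟨0, 0⟩, ⟨0, 0⟩, ⟨0, 1⟩],
    !![⟨2, 1⟩, ⟨2, 1⟩, ⟨0, 0⟩; ⟨2, 2⟩, ⟨1, 1⟩, ⟨0, 0⟩; ⟨0, 0⟩, ⟨0, 0⟩, ⟨2, 0⟩]]

open U33 in
theorem wit_mem : ∀ k : Fin 2, (wit k).det = 1 ∧
    ∀ i j, form (fun r => wit k r i) (fun r => wit k r j) = if i = j then 1 else 0 := by
  decide +kernel

open U33 in
theorem wit_order : ∀ k : Fin 2, wit k ^ [8, 12].getD k.val 0 = 1 ∧
    ∀ m : Fin ([8, 12].getD k.val 0), m.val = 0 ∨ wit k ^ m.val ≠ 1 := by decide +kernel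

open U33 in
theorem seven : M 3 ^ 7 = 1 ∧ ∀ m : Fin 7, m.val = 0 ∨ M 3 ^ m.val ≠ 1 := by decide +kernel

open U33 in
theorem su_spectrum : Set.range (orderOf : Cfsg.SU 3 F9 3 → ℕ) = {m | m ∣ 7 ∨ m ∣ 8 ∨ m ∣ 12} := by
  have hcoe : ∀ (g : Cfsg.SU 3 F9 3) (n : ℕ), g ^ n = 1 ↔ g.1.1 ^ n = 1 := fun g n => by
    rw [← Matrix.SpecialLinearGroup.coe_pow, ← SubgroupClass.coe_pow]
    exact ⟨fun h => by rw [h]; rfl, fun h => ext' h⟩
  have hord : ∀ (g : Cfsg.SU 3 F9 3) (n : ℕ), 0 < n → g.1.1 ^ n = 1 →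
      (∀ m : Fin n, m.val = 0 ∨ g.1.1 ^ m.val ≠ 1) → orderOf g = n := fun g n hn h1 h2 =>
    orderOf_eq_of_forall hn ((hcoe g n).2 h1) fun m => (h2 m).imp_right fun h e => h ((hcoe g _).1 e)
  refine range_eq (fun g => ?_) ⟨el 3, hord _ 7 (by norm_num) seven.1 seven.2⟩
    ⟨U33.mk _ (wit_mem 0).1 (wit_mem 0).2, hord _ 8 (by norm_num) (wit_order 0).1 (wit_order 0).2⟩
    ⟨U33.mk _ (wit_mem 1).1 (wit_mem 1).2, hord _ 12 (by norm_num) (wit_order 1).1 (wit_order 1).2⟩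
  have h := cubic g.1.1 g.1.2
  rw [adjugate_trace] at h
  simp only [hcoe]
  exact (su_coef g.1.1.trace).imp (pow_eq_one_of_coef h)
    (Or.imp (pow_eq_one_of_coef h) (pow_eq_one_of_coef h))

theorem range_quotient {G : Type*} [Group G] {Z : Subgroup G} [Z.Normal] (hZ : Z = ⊥) :
    Set.range (orderOf : G ⧸ Z → ℕ) = Set.range (orderOf : G → ℕ) := by
  subst hZ
  ext m
  constructor
  · rintro ⟨x, rfl⟩
    exact ⟨QuotientGroup.quotientBot x, MulEquiv.orderOf_eq _ x⟩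
  · rintro ⟨x, rfl⟩
    exact ⟨QuotientGroup.quotientBot.symm x, MulEquiv.orderOf_eq _ x⟩

theorem range_congr {G H : Type*} [Group G] [Group H] (e : G ≃* H) :
    Set.range (orderOf : G → ℕ) = Set.range (orderOf : H → ℕ) := by
  ext m
  constructor
  · rintro ⟨x, rfl⟩; exact ⟨e x, e.orderOf_eq x⟩
  · rintro ⟨x, rfl⟩; exact ⟨e.symm x, e.symm.orderOf_eq x⟩

theorem cube_eq_one : ∀ s : ZMod 3, s ^ 3 = 1 → s = 1 := by decide +kernel

theorem psl_spectrum {F : Type*} [Field F] [Fintype F] (hF : Fintype.card F = 3) :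
    Set.range (orderOf : Matrix.ProjectiveSpecialLinearGroup (Fin 3) F → ℕ) =
      {m | m ∣ 6 ∨ m ∣ 8 ∨ m ∣ 13} := by
  haveI : Fact (Nat.Prime 3) := ⟨by norm_num⟩
  let e : F ≃+* ZMod 3 := FiniteField.ringEquivOfCardEq (by rw [hF, ZMod.card])
  let E : Matrix.SpecialLinearGroup (Fin 3) F ≃* Matrix.SpecialLinearGroup (Fin 3) (ZMod 3) :=
    { toFun := Matrix.SpecialLinearGroup.map (e : F →+* ZMod 3)
      invFun := Matrix.SpecialLinearGroup.map (e.symm : ZMod 3 →+* F)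
      left_inv := fun g => Subtype.ext (Matrix.ext fun i j => e.symm_apply_apply _)
      right_inv := fun g => Subtype.ext (Matrix.ext fun i j => e.apply_symm_apply _)
      map_mul' := map_mul _ }
  have hZ : Subgroup.center (Matrix.SpecialLinearGroup (Fin 3) F) = ⊥ := by
    rw [eq_bot_iff]
    intro g hg
    obtain ⟨r, hr, hrg⟩ := Matrix.SpecialLinearGroup.mem_center_iff.mp hg
    rw [Fintype.card_fin] at hr
    have hr1 : r = 1 := by
      apply e.injective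
      have h3 := congrArg e hr
      rw [map_pow, map_one] at h3
      rw [map_one]
      exact cube_eq_one _ h3
    refine Subgroup.mem_bot.mpr (Subtype.ext ?_)
    rw [← hrg, hr1, map_one, Matrix.SpecialLinearGroup.coe_one]
  rw [← sl_spectrum, ← range_congr E, range_quotient hZ]

theorem psu_spectrum {F : Type*} [Field F] [Fintype F] (hF : Fintype.card F = 9) :
    Set.range (orderOf : Cfsg.PSU 3 F 3 → ℕ) = {m | m ∣ 7 ∨ m ∣ 8 ∨ m ∣ 12} := by
  obtain ⟨σ, hσq, hσ, hq, -⟩ := exists_powHom (F := F) (q := 3) (by rw [hF]; norm_num)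
  have hZ : Subgroup.center (Cfsg.SU 3 F 3) = ⊥ :=
    Subgroup.card_eq_one.mp ((card_center_SU (n := 3) hσ hσq hq (by norm_num)).trans (by norm_num))
  let e : F ≃+* U33.F9 := FiniteField.ringEquivOfCardEq (by rw [hF, U33.F9.card_eq])
  rw [← su_spectrum, ← range_congr (U34.mapSU 3 3 e), range_quotient hZ]

end Cfsg.Agent.SameSpectrum
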