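import Cfsg.Agent.SameSpectrum.Basic
import Cfsg.Agent.SameSpectrum.Data

/-!
Two solvable Frobenius groups: `13⁸ : (2.S₄)` and `7⁸ : (3 : 8)`.
-/

set_option autoImplicit false
set_option maxRecDepth 100000
set_option maxHeartbeats 4000000
set_option linter.style.haveILetI false

namespace Cfsg.Agent.SameSpectrum

/-- The matrix ring. -/
abbrev Mat (p : ℕ) (d : ZMod p) : Type := Matrix (Fin 2) (Fin 2) (QuadraticAlgebra (ZMod p) d 0)

/-- Unpacking. -/
def toMat (p : ℕ) (d : ZMod p) (l : List ℕ) : Mat p d :=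
  !![⟨(l.getD 0 0 : ℕ), (l.getD 1 0 : ℕ)⟩, ⟨(l.getD 2 0 : ℕ), (l.getD 3 0 : ℕ)⟩;
     ⟨(l.getD 4 0 : ℕ), (l.getD 5 0 : ℕ)⟩, ⟨(l.getD 6 0 : ℕ), (l.getD 7 0 : ℕ)⟩]

/-- The norm of the determinant. -/
def detNorm {p : ℕ} {d : ZMod p} (A : Mat p d) : ZMod p :=
  let x := A 0 0 * A 1 1 - A 0 1 * A 1 0
  x.re * x.re - d * (x.im * x.im)

theorem isUnit_of_detNorm {p : ℕ} [Fact p.Prime] {d : ZMod p} {A : Mat p d} (h : detNorm A ≠ 0) :
    IsUnit A := by
  rw [Matrix.isUnit_iff_isUnit_det, QuadraticAlgebra.isUnit_iff_norm_isUnit, isUnit_iff_ne_zero,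
    QuadraticAlgebra.norm_def, Matrix.det_fin_two]
  simpa [detNorm, mul_assoc] using h

instance (p : ℕ) [NeZero p] (d : ZMod p) : Finite (QuadraticAlgebra (ZMod p) d 0) :=
  Finite.of_equiv _ (QuadraticAlgebra.equivProd d (0 : ZMod p)).symm

/-- The elements of the binary octahedral group. -/
def octM (i : Fin 48) : Mat 13 2 := toMat 13 2 (octElts.getD i.val [])

theorem oct_det : ∀ i : Fin 48, i = 0 ∨ detNorm (octM i - 1) ≠ 0 := by decide +kernel

theorem oct_spectrum : ∃ (H : Type) (_ : Group H) (_ : Fintype H), Group.IsSolvable H ∧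
    Set.range (orderOf : H → ℕ) = {m | m ∣ 6 ∨ m ∣ 8 ∨ m ∣ 13} := by
  haveI : Fact (Nat.Prime 13) := ⟨by norm_num⟩
  refine exists_solvable_of_table octM
    (fun i j => Fin.ofNat 48 ((octTab.getD i.val []).getD j.val 0))
    (fun i => Fin.ofNat 48 (octInv.getD i.val 0)) (r := 2) (s := 3) (k := 4) (l := 1)
    (by norm_num) ?_ ?_ ?_ ?_ ?_ ?_ ?_ (by norm_num) (by norm_num) (by norm_num) ?_ 1 2
    (orderOf_eq_of_forall (by norm_num) ?_ ?_)
    (orderOf_eq_of_forall (by norm_num) ?_ ?_)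
  · decide +kernel
  · decide +kernel
  · decide +kernel
  · decide +kernel
  · decide +kernel
  · decide +kernel
  · exact fun i => (oct_det i).imp_right isUnit_of_detNorm
  all_goals decide +kernel

/-- The elements of `3 : 8`. -/
def dicM (i : Fin 24) : Mat 7 6 := toMat 7 6 (dicElts.getD i.val [])

theorem dic_det : ∀ i : Fin 24, i = 0 ∨ detNorm (dicM i - 1) ≠ 0 := by decide +kernel

theorem dic_spectrum : ∃ (H : Type) (_ : Group H) (_ : Fintype H), Group.IsSolvable H ∧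
    Set.range (orderOf : H → ℕ) = {m | m ∣ 12 ∨ m ∣ 8 ∨ m ∣ 7} := by
  haveI : Fact (Nat.Prime 7) := ⟨by norm_num⟩
  refine exists_solvable_of_table dicM
    (fun i j => Fin.ofNat 24 ((dicTab.getD i.val []).getD j.val 0))
    (fun i => Fin.ofNat 24 (dicInv.getD i.val 0)) (r := 2) (s := 3) (k := 3) (l := 1)
    (by norm_num) ?_ ?_ ?_ ?_ ?_ ?_ ?_ (by norm_num) (by norm_num) (by norm_num) ?_ 7 2
    (orderOf_eq_of_forall (by norm_num) ?_ ?_)
    (orderOf_eq_of_forall (by norm_num) ?_ ?_)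
  · decide +kernel
  · decide +kernel
  · decide +kernel
  · decide +kernel
  · decide +kernel
  · decide +kernel
  · exact fun i => (dic_det i).imp_right isUnit_of_detNorm
  all_goals decide +kernel

end Cfsg.Agent.SameSpectrum
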