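import Mathlib
import Cfsg.Agent.Spectrum.Orders
import Cfsg.Agent.S0144

/-!
Frobenius groups `R ⋊ H` for a fixed-point-free group of units `H`, and groups whose spectrum is
the set of divisors of three numbers.
-/

set_option autoImplicit false
set_option linter.unusedSectionVars false
set_option linter.style.haveILetI false

namespace Cfsg.Agent.SameSpectrum

theorem range_eq {G : Type*} [Group G] [Finite G] {a b c : ℕ}
    (h : ∀ g : G, g ^ a = 1 ∨ g ^ b = 1 ∨ g ^ c = 1)
    (ha : ∃ g : G, orderOf g = a) (hb : ∃ g : G, orderOf g = b) (hc : ∃ g : G, orderOf g = c) :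
    Set.range (orderOf : G → ℕ) = {m | m ∣ a ∨ m ∣ b ∨ m ∣ c} := by
  ext m
  simp only [Set.mem_range, Set.mem_setOf_eq]
  constructor
  · rintro ⟨g, rfl⟩
    exact (h g).imp orderOf_dvd_of_pow_eq_one
      (Or.imp orderOf_dvd_of_pow_eq_one orderOf_dvd_of_pow_eq_one)
  · have key : ∀ n, (∃ g : G, orderOf g = n) → m ∣ n → ∃ y : G, orderOf y = m := by
      rintro n ⟨g, rfl⟩ hm
      exact Spectrum.exists_orderOf_eq_of_dvd (orderOf_pos g).ne' hm
    rintro (hm | hm | hm)
    exacts [key a ha hm, key b hb hm, key c hc hm]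

theorem orderOf_eq_of_forall {G : Type*} [Monoid G] {g : G} {n : ℕ} (hn : 0 < n) (h1 : g ^ n = 1)
    (h2 : ∀ m : Fin n, m.val = 0 ∨ g ^ m.val ≠ 1) : orderOf g = n :=
  (orderOf_eq_iff hn).mpr ⟨h1, fun m hm hm0 => (h2 ⟨m, hm⟩).resolve_left (by simpa using hm0.ne')⟩

section Aff

variable {R : Type} [Ring R] (U : Subgroup Rˣ)

/-- Left multiplication on the additive group. -/
def act : U →* MulAut (Multiplicative R) where
  toFun u :=
    { toFun := fun r => Multiplicative.ofAdd (((u : Rˣ) : R) * r.toAdd)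
      invFun := fun r => Multiplicative.ofAdd ((((u : Rˣ)⁻¹ : Rˣ) : R) * r.toAdd)
      left_inv := fun r => by simp [← mul_assoc]
      right_inv := fun r => by simp [← mul_assoc]
      map_mul' := fun r s => by
        apply Multiplicative.toAdd.injective
        simp [mul_add] }
  map_one' := by
    ext r
    simp
  map_mul' u v := by
    ext r
    simp [mul_assoc]

/-- The affine group. -/
abbrev Aff : Type := Multiplicative R ⋊[act U] U

theorem act_apply (u : U) (r : Multiplicative R) :
    act U u r = Multiplicative.ofAdd (((u : Rˣ) : R) * r.toAdd) := rfl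

theorem orderOf_eq_right (hfix : ∀ u : U, u ≠ 1 → IsUnit (((u : Rˣ) : R) - 1)) {g : Aff U}
    (hg : g.right ≠ 1) : orderOf g = orderOf g.right := by
  obtain ⟨v, hv⟩ := hfix _ hg
  let w : R := -(((v⁻¹ : Rˣ) : R) * g.left.toAdd)
  have hconj : g * SemidirectProduct.inl (Multiplicative.ofAdd w) =
      SemidirectProduct.inl (Multiplicative.ofAdd w) * SemidirectProduct.inr g.right := by
    refine SemidirectProduct.ext ?_ (by simp)
    apply Multiplicative.toAdd.injective
    simp only [SemidirectProduct.mul_left, SemidirectProduct.left_inl, SemidirectProduct.right_inl,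
      SemidirectProduct.left_inr, map_one, MulAut.one_apply, act_apply, toAdd_mul, toAdd_one,
      toAdd_ofAdd, mul_one]
    have e : (((g.right : Rˣ) : R) - 1) * w = -g.left.toAdd := by
      simp only [w, mul_neg, ← mul_assoc, ← hv, Units.mul_inv, one_mul]
    rw [sub_mul, one_mul, sub_eq_iff_eq_add] at e
    rw [e]
    abel
  rw [← orderOf_injective (SemidirectProduct.inr : U →* Aff U) SemidirectProduct.inr_injective g.right]
  have hg' : g = MulAut.conj (SemidirectProduct.inl (Multiplicative.ofAdd w))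
      (SemidirectProduct.inr g.right : Aff U) := by
    rw [MulAut.conj_apply, ← hconj, mul_inv_cancel_right]
  conv_lhs => rw [hg']
  exact MulEquiv.orderOf_eq _ _

theorem exists_solvable [Finite R] [Nontrivial R] {p a b : ℕ} (hp : p.Prime) (hpR : (p : R) = 0)
    (hfix : ∀ u : U, u ≠ 1 → IsUnit (((u : Rˣ) : R) - 1)) (hU : Group.IsSolvable U)
    (hpow : ∀ u : U, u ^ a = 1 ∨ u ^ b = 1) (ha : ∃ u : U, orderOf u = a) 
    (hb : ∃ u : U, orderOf u = b) :
    ∃ (H : Type) (_ : Group H) (_ : Fintype H), Group.IsSolvable H ∧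
      Set.range (orderOf : H → ℕ) = {m | m ∣ a ∨ m ∣ b ∨ m ∣ p} := by
  haveI : Finite (Aff U) := Finite.of_equiv _ SemidirectProduct.equivProd.symm
  haveI := Fintype.ofFinite (Aff U)
  refine ⟨Aff U, inferInstance, inferInstance, ?_, range_eq (fun g => ?_) ?_ ?_ ?_⟩
  · haveI := hU
    exact solvable_of_ker_le_range SemidirectProduct.inl SemidirectProduct.rightHom
      SemidirectProduct.range_inl_eq_ker_rightHom.ge
  · by_cases hg : g.right = 1
    · right; right
      have : g = SemidirectProduct.inl g.left := SemidirectProduct.ext (by simp) (by simp [hg])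
      rw [this, ← map_pow]
      have e : g.left ^ p = 1 := Multiplicative.toAdd.injective (by
        rw [toAdd_pow, nsmul_eq_mul, hpR, zero_mul, toAdd_one])
      rw [e, map_one]
    · rcases hpow g.right with h | h
      · left
        rw [← orderOf_dvd_iff_pow_eq_one, orderOf_eq_right U hfix hg]
        exact orderOf_dvd_of_pow_eq_one h
      · right; left
        rw [← orderOf_dvd_iff_pow_eq_one, orderOf_eq_right U hfix hg]
        exact orderOf_dvd_of_pow_eq_one h
  · obtain ⟨u, hu⟩ := ha
    exact ⟨SemidirectProduct.inr u, by rw [orderOf_injective _ SemidirectProduct.inr_injective, hu]⟩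
  · obtain ⟨u, hu⟩ := hb
    exact ⟨SemidirectProduct.inr u, by rw [orderOf_injective _ SemidirectProduct.inr_injective, hu]⟩
  · haveI := Fact.mk hp
    refine ⟨SemidirectProduct.inl (Multiplicative.ofAdd (1 : R)), ?_⟩
    rw [orderOf_injective _ SemidirectProduct.inl_injective, orderOf_ofAdd_eq_addOrderOf]
    exact addOrderOf_eq_prime (by rw [nsmul_one, hpR]) one_ne_zero

end Aff

section Table

variable {R : Type} [Ring R] {N : ℕ} [NeZero N] (M : Fin N → R) (tab : Fin N → Fin N → Fin N)
  (inv : Fin N → Fin N)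

/-- The unit with a given inverse. -/
def unit (h1 : ∀ i, M i * M (inv i) = 1) (h2 : ∀ i, M (inv i) * M i = 1) (i : Fin N) : Rˣ :=
  ⟨M i, M (inv i), h1 i, h2 i⟩

/-- A group of units given by a table. -/
def tableGroup (h0 : M 0 = 1) (hmul : ∀ i j, M i * M j = M (tab i j))
    (h1 : ∀ i, M i * M (inv i) = 1) (h2 : ∀ i, M (inv i) * M i = 1) : Subgroup Rˣ where
  carrier := {u | ∃ i, (u : R) = M i}
  one_mem' := ⟨0, h0.symm⟩
  mul_mem' := by
    rintro u v ⟨i, hi⟩ ⟨j, hj⟩
    exact ⟨tab i j, by rw [Units.val_mul, hi, hj, hmul]⟩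
  inv_mem' := by
    rintro u ⟨i, hi⟩
    exact ⟨inv i, Units.inv_eq_of_mul_eq_one_right (by rw [hi, h1])⟩

theorem exists_solvable_of_table [Finite R] [Nontrivial R] {p a b r s k l : ℕ} (hp : p.Prime)
    (hpR : (p : R) = 0) (h0 : M 0 = 1) (hmul : ∀ i j, M i * M j = M (tab i j))
    (h1 : ∀ i, M i * M (inv i) = 1) (h2 : ∀ i, M (inv i) * M i = 1)
    (hinj : ∀ i j, M i = M j → i = j)
    (hfix : ∀ i, i = 0 ∨ IsUnit (M i - 1))
    (hr : r.Prime) (hs : s.Prime) (hN : N = r ^ k * s ^ l)
    (hpow : ∀ i, M i ^ a = 1 ∨ M i ^ b = 1)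
    (ia ib : Fin N) (ha : orderOf (M ia) = a) (hb : orderOf (M ib) = b) :
    ∃ (H : Type) (_ : Group H) (_ : Fintype H), Group.IsSolvable H ∧
      Set.range (orderOf : H → ℕ) = {m | m ∣ a ∨ m ∣ b ∨ m ∣ p} := by
  set U := tableGroup M tab inv h0 hmul h1 h2
  have hcard : Nat.card U = N := by
    let e : Fin N → U := fun i => ⟨unit M inv h1 h2 i, i, rfl⟩
    have he : Function.Bijective e := by
      refine ⟨fun i j h => hinj i j (congrArg (fun u : U => ((u : Rˣ) : R)) h), ?_⟩
      rintro ⟨u, i, hi⟩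
      exact ⟨i, Subtype.ext (Units.ext hi.symm)⟩
    rw [← Nat.card_congr (Equiv.ofBijective e he), Nat.card_eq_fintype_card, Fintype.card_fin]
  refine exists_solvable U hp hpR ?_ ?_ ?_ ⟨⟨unit M inv h1 h2 ia, ia, rfl⟩, ?_⟩
    ⟨⟨unit M inv h1 h2 ib, ib, rfl⟩, ?_⟩
  · rintro ⟨u, i, hi⟩ hne
    rcases hfix i with h | h
    · exact absurd (Subtype.ext (Units.ext (by rw [hi, h, h0]; rfl))) hne
    · rw [show ((⟨u, i, hi⟩ : U) : Rˣ) = u from rfl, hi]
      exact h
  · exact S0144.result r s k l hr hs (by rw [hcard, hN])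
  · rintro ⟨u, i, hi⟩
    refine (hpow i).imp (fun h => ?_) fun h => ?_ <;>
      exact Subtype.ext (Units.ext (by simpa [hi] using h))
  · rw [← orderOf_injective U.subtype Subtype.val_injective, ← orderOf_units]
    exact ha
  · rw [← orderOf_injective U.subtype Subtype.val_injective, ← orderOf_units]
    exact hb

end Table

end Cfsg.Agent.SameSpectrum
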